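import Groth.Agent.Lib.StAlg16.CutOut

/-! Substacks cut out on every chart, over an arbitrary category over the base. -/

universe u

open CategoryTheory CategoryTheory.Functor CategoryTheory.Limits AlgebraicGeometry Opposite

set_option linter.style.haveILetI false
set_option linter.unusedSectionVars false
set_option backward.isDefEq.respectTransparency false
set_option backward.isDefEq.respectTransparency.types false

namespace Groth.Agent.ModSt9

open Groth.Agent.FC16 Groth.Agent.StAlg AlgSt Groth.Agent.StAlg16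

variable {S : Scheme.{u}} {𝒳 : AlgSt.Cat S} {P : MorphismProperty Scheme.{u}} {Q : 𝒳.obj → Prop}

theorem exists_fp (hiso : ObjectProperty.IsClosedUnderIsomorphisms Q)
    (hQ : CutOut P Q) {U : Over S} (y : FibCat.overCat U ⥤ᵇ 𝒳) :
    ∃ (Z : Over S) (ι : Z ⟶ U) (E : FibCat.overCat Z ⥤ᵇ FibCat.fp y (subIncl 𝒳 Q)),
      P ι.left ∧ FibCat.IsEquivOver E ∧
        BasedFunctor.comp E (FibCat.fpFst y (subIncl 𝒳 Q)) = AlgSt.overMap ι := by
  obtain ⟨Z, ι, hP, hm, hz⟩ := hQ U y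
  haveI := hm
  haveI := hiso
  let L : FibCat.overCat Z ⥤ᵇ fullSub 𝒳 Q :=
    { toFunctor := ObjectProperty.lift _ (BasedFunctor.comp (AlgSt.overMap ι) y).toFunctor fun b =>
        (hz ((AlgSt.overMap ι).obj b)).2 ⟨b.hom, rfl⟩
      w := (BasedFunctor.comp (AlgSt.overMap ι) y).w }
  let E : FibCat.overCat Z ⥤ᵇ FibCat.fp y (subIncl 𝒳 Q) :=
    FibCat.fpLift (AlgSt.overMap ι) L (Iso.refl (BasedFunctor.comp (AlgSt.overMap ι) y))
  refine ⟨Z, ι, E, hP, ?_, rfl⟩
  haveI : E.toFunctor.Faithful := ⟨fun {a b φ φ'} e =>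
    Over.OverMorphism.ext (congrArg (fun t => t.hom.fst.left) e)⟩
  haveI : E.toFunctor.Full := ⟨fun {a b} ψ => by
    have w1 : ψ.hom.fst.left ≫ b.hom ≫ ι = a.hom ≫ ι := Over.w ψ.hom.fst
    rw [← Category.assoc, cancel_mono] at w1
    refine ⟨Over.homMk ψ.hom.fst.left w1, fp_hom_ext (Over.OverMorphism.ext rfl) (ObjectProperty.hom_ext _ ?_)⟩
    have w2 : y.map ψ.hom.fst ≫ 𝟙 _ = 𝟙 _ ≫ ψ.hom.snd.hom := fp_w ψ
    exact (Category.comp_id _).symm.trans (w2.trans (Category.id_comp _))⟩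
  refine isEquivOver_of _ fun η => ?_
  let b : (FibCat.overCat U).obj := η.obj.fst
  obtain ⟨l, hl⟩ := (hz b).1 (ObjectProperty.prop_of_iso Q η.obj.iso.symm η.obj.snd.property)
  let o : (FibCat.overCat Z).obj := Over.mk l
  let a : (AlgSt.overMap ι).obj o ≅ b := Over.isoMk (Iso.refl _) ((Category.id_comp _).trans hl.symm)
  refine ⟨o, fpIsoMk a (ObjectProperty.isoMk _ (y.toFunctor.mapIso a ≪≫ η.obj.iso)) ?_,
    @isHomLift_of_fst _ _ _ _ _ _ _ _ _ _ _ _ _ ?_⟩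
  · show y.map a.hom ≫ η.obj.iso.hom = 𝟙 _ ≫ (y.map a.hom ≫ η.obj.iso.hom)
    rw [Category.id_comp]
  · refine IsHomLift.of_fac' _ _ _ rfl rfl ?_
    change 𝟙 _ = _
    simp
    rfl

theorem isOpenImm_subIncl (hiso : ObjectProperty.IsClosedUnderIsomorphisms Q)
    (hQ : CutOut @IsOpenImmersion Q) : AlgSt.IsOpenImm (subIncl 𝒳 Q) := fun U y => by
  obtain ⟨Z, ι, E, hP, hE, he⟩ := exists_fp hiso hQ y
  refine ⟨⟨(AlgSp.yon S).obj Z, AlgSp.IsAlgSpace.yon_obj _⟩,
    BasedFunctor.comp (AlgSt.toOverCat Z) E, isEquivOver_comp (toOverCat_isEquivOver _) hE, ?_⟩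
  have e : AlgSt.spMapOfOver (BasedFunctor.comp (BasedFunctor.comp (AlgSt.toOverCat Z) E)
      (FibCat.fpFst y (subIncl 𝒳 Q))) = (AlgSp.yon S).map ι := by
    apply ObjectProperty.hom_ext
    rw [spMapOfOver_hom, show BasedFunctor.comp (BasedFunctor.comp (AlgSt.toOverCat Z) E)
      (FibCat.fpFst y (subIncl 𝒳 Q)) = BasedFunctor.comp (AlgSt.toOverCat Z)
        (AlgSt.overMap ι) from congrArg (BasedFunctor.comp (AlgSt.toOverCat Z)) he]
    ext T' x
    rfl
  show AlgSp.RepWith @IsOpenImmersion _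
  rw [e]
  exact (AlgSp.repWith_yon_map_iff _ _).2 hP

end Groth.Agent.ModSt9
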