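import Groth.Agent.Lib.Cons12.LocFree
import Groth.Agent.Lib.ModM1.Pull

/-! Locally free locus of a flat family. -/

universe u

open CategoryTheory CategoryTheory.Limits AlgebraicGeometry TopologicalSpace Topology

set_option linter.style.haveILetI false
set_option backward.isDefEq.respectTransparency false

namespace Groth.Agent.ModSt9

open Groth.Agent.Cons12 Groth.Agent.ModLimH13

variable {X S : Scheme.{u}} (f : X ⟶ S) [LocallyOfFinitePresentation f] (F : X.Modules)

theorem mem_rankLocus_of_fibre (hFP : CohB1.IsFP F) (hfl : FlatMod.IsFlatOver f F) {s : S} {n : ℕ}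
    (z : f.fiber s) (hz : z ∈ rankLocus n ((Scheme.Modules.pullback (f.fiberι s)).obj F)) :
    f.fiberι s z ∈ rankLocus n F := by
  haveI : LocallyOfFinitePresentation (𝟙 X ≫ f) := by rw [Category.id_comp]; infer_instance
  have hFP' := M1.isFP_pullback (f.fiberι s) hFP
  obtain ⟨V, hzV, ⟨i⟩⟩ := mem_rankLocus.1 hz
  haveI := M1.free_stalk_of_freeMod (M1.isFP_isQCoh hFP') i hzV
  have h1 : FlatMod.IsFlatOverAt (𝟙 (f.fiber s)) ((Scheme.Modules.pullback (f.fiberι s)).obj F) z :=
    (isFlatOverAt_id_iff _ z).2 (Module.Flat.of_free)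
  have hsq : IsPullback (f.fiberι s) (𝟙 (f.fiber s) ≫ f.fiberToSpecResidueField s) (𝟙 X ≫ f)
      (S.fromSpecResidueField s) := by
    rw [Category.id_comp, Category.id_comp]
    exact IsPullback.of_hasPullback _ _
  have hflx : FlatMod.IsFlatOverAt (𝟙 X ≫ f) F (f.fiberι s z) := by
    rw [Category.id_comp]
    exact hfl _
  have h2 : FlatMod.IsFlatOverAt (𝟙 X) F (f.fiberι s z) :=
    FlatH4.isFlatOverAt_of_baseChange (𝟙 X) f (IsPullback.of_hasPullback f (S.fromSpecResidueField s)) hsq
      (by rw [Category.comp_id, Category.id_comp]; rfl) F hFP z hflx h1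
  haveI := M1.free_stalk_of_flat hFP (f.fiberι s z) ((isFlatOverAt_id_iff F _).1 h2)
  obtain ⟨U, m, hU, he⟩ := M1.exists_freeMod_of_free_stalk hFP (f.fiberι s z)
  have hm : f.fiberι s z ∈ rankLocus m F := mem_rankLocus.2 ⟨U, hU, he⟩
  rwa [rankLocus_unique hz (mem_rankLocus_pullback _ hm)]

/-- the base points all of whose fibre is in the rank `n` locus -/
noncomputable def goodBase [IsProper f] (n : ℕ) : S.Opens :=
  ⟨(⇑f '' (rankLocus n F : Set X)ᶜ)ᶜ, (f.isClosedMap _ (rankLocus n F).2.isClosed_compl).isOpen_compl⟩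

theorem rankIn_pullback_iff [IsProper f] (hFP : CohB1.IsFP F) (hfl : FlatMod.IsFlatOver f F) {n : ℕ}
    {X' S' : Scheme.{u}} {h : X' ⟶ X} {f' : X' ⟶ S'} {g : S' ⟶ S} (sq : IsPullback h f' f g) :
    FlatMod.IsFinLocFreeOfRank n ((Scheme.Modules.pullback h).obj F) ↔
      Set.range g ⊆ (goodBase f F n : Set S) := by
  rw [← rankIn_singleton_iff]
  constructor
  · rintro hr _ ⟨t, rfl⟩ ⟨x, hx, hxs⟩
    refine hx ?_
    let r := g.residueFieldMap t
    have hr' : Spec.map r ≫ S.fromSpecResidueField (g t) = S'.fromSpecResidueField t ≫ g :=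
      g.SpecMap_residueFieldMap_fromSpecResidueField t
    have h1 : IsPullback (f'.fiberι t ≫ h) (f'.fiberToSpecResidueField t) f (S'.fromSpecResidueField t ≫ g) :=
      (IsPullback.of_hasPullback f' (S'.fromSpecResidueField t)).paste_horiz sq
    let e : f'.fiber t ⟶ f.fiber (g t) :=
      pullback.lift (f'.fiberι t ≫ h) (f'.fiberToSpecResidueField t ≫ Spec.map r)
        (by rw [h1.w, Category.assoc, hr'])
    have he1 : e ≫ f.fiberι (g t) = f'.fiberι t ≫ h := pullback.lift_fst _ _ _
    have he2 : e ≫ f.fiberToSpecResidueField (g t) = f'.fiberToSpecResidueField t ≫ Spec.map r :=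
      pullback.lift_snd _ _ _
    have h2 : IsPullback e (f'.fiberToSpecResidueField t) (f.fiberToSpecResidueField (g t)) (Spec.map r) := by
      refine IsPullback.of_right ?_ he2 (IsPullback.of_hasPullback f (S.fromSpecResidueField (g t)))
      rw [hr']
      exact he1 ▸ h1
    have h3 : RankIn {n} ((Scheme.Modules.pullback e).obj ((Scheme.Modules.pullback (f.fiberι (g t))).obj F)) :=
      rankIn_iso ((Scheme.Modules.pullbackComp (f'.fiberι t) h).app F ≪≫
        (Scheme.Modules.pullbackCongr he1.symm).app F ≪≫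
        ((Scheme.Modules.pullbackComp e (f.fiberι (g t))).app F).symm) (rankIn_pullback (f'.fiberι t) hr)
    haveI : LocallyOfFinitePresentation (f.fiberToSpecResidueField (g t)) :=
      MorphismProperty.pullback_snd _ _ inferInstance
    have hFP' := M1.isFP_pullback (f.fiberι (g t)) hFP
    have h4 : RankIn {n} ((Scheme.Modules.pullback (f.fiberι (g t))).obj F) :=
      ((isFieldStableMod_rankIn {n}) _ _ e (Spec.map r) h2 _ _ ⟨M1.isFP_isQCoh hFP', M1.isFP_isFT hFP'⟩
        (Iso.refl _)).2 h3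
    obtain ⟨z, rfl⟩ : x ∈ Set.range (f.fiberι (g t)) := (f.range_fiberι (g t)).ge hxs
    obtain ⟨m, hm, hz⟩ := h4 z
    cases hm
    exact mem_rankLocus_of_fibre f F hFP hfl z hz
  · intro hr z
    refine ⟨n, rfl, mem_rankLocus_pullback h ?_⟩
    by_contra hn
    exact hr ⟨f' z, rfl⟩ ⟨h z, hn, by
      show (h ≫ f) z = (f' ≫ g) z
      rw [sq.w]⟩

end Groth.Agent.ModSt9
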