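import Groth.Agent.Lib.ModSt9.CutOut
import Groth.Agent.Lib.ModSt9.Locus
import Groth.Prelude.Def_ModSt

/-! The line bundles form an open substack of the flat finitely presented modules. -/

universe u

open CategoryTheory CategoryTheory.Limits AlgebraicGeometry

set_option linter.style.haveILetI false
set_option backward.isDefEq.respectTransparency false
set_option backward.isDefEq.respectTransparency.types false

namespace Groth.Agent.ModSt9

open Groth.Agent.Cons12 Groth.Agent.ModLimH13

/-- A cartesian comparison map exhibits the inverse image. -/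
theorem nonempty_iso_of_isCart {Y Z : Scheme.{u}} {h : Y ⟶ Z} {N : Z.Modules} {M : Y.Modules}
    {c : N ⟶ (Scheme.Modules.pushforward h).obj M} (hc : ModSt.IsCart h c) :
    Nonempty ((Scheme.Modules.pullback h).obj N ≅ M) := by
  let adj := Scheme.Modules.pullbackPushforwardAdjunction h
  let a : (Scheme.Modules.pullback h).obj N ⟶ M := (adj.homEquiv N M).symm c
  have key : ∀ (M' : Y.Modules) (v : M ⟶ M'),
      (adj.homEquiv N M') (a ≫ v) = c ≫ (Scheme.Modules.pushforward h).map v := fun M' v => by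
    rw [Adjunction.homEquiv_naturality_right, Equiv.apply_symm_apply]
  obtain ⟨b, hb⟩ := (hc ((Scheme.Modules.pullback h).obj N)).2 (adj.homEquiv _ _ (𝟙 _))
  dsimp only at hb
  rw [← key] at hb
  have h1 : a ≫ b = 𝟙 _ := (adj.homEquiv _ _).injective hb
  have h2 : b ≫ a = 𝟙 M := (hc M).1 (by
    dsimp only
    rw [← key, ← key, reassoc_of% h1, Category.comp_id])
  exact ⟨⟨a, b, h1, h2⟩⟩

variable {X S : Scheme.{u}} {f : X ⟶ S}

/-- finite locally free of rank one, on objects -/
abbrev IsLine (A : (ModSt.Coh f).obj) : Prop := FlatMod.IsFinLocFreeOfRank 1 A.obj.E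

theorem isLine_of_hom {a b : (ModSt.Coh f).obj} (φ : a ⟶ b) (h : IsLine b) : IsLine a := by
  obtain ⟨e⟩ := nonempty_iso_of_isCart φ.hom.cart
  rw [IsLine, ← rankIn_singleton_iff] at h ⊢
  exact rankIn_iso e (rankIn_pullback φ.hom.top h)

variable [IsProper f] [LocallyOfFinitePresentation f]

theorem cutOut_isLine : StAlg16.CutOut @IsOpenImmersion (𝒳 := ModSt.Coh f) IsLine := fun U y => by
  let A := y.obj (Over.mk (𝟙 U))
  haveI : IsProper A.obj.q := MorphismProperty.of_isPullback A.obj.isPullback inferInstance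
  haveI : LocallyOfFinitePresentation A.obj.q := MorphismProperty.of_isPullback A.obj.isPullback inferInstance
  let O : A.obj.base.left.Opens := goodBase A.obj.q A.obj.E 1
  have e : A.obj.base = U := y.w_obj (Over.mk (𝟙 U))
  let ι : Over.mk (O.ι ≫ A.obj.base.hom) ⟶ U := Over.homMk O.ι ≫ eqToHom e
  have hι : IsOpenImmersion ι.left := by
    haveI : IsIso ((eqToHom e).left) := inferInstanceAs (IsIso ((Over.forget S).map (eqToHom e)))
    show IsOpenImmersion (O.ι ≫ (eqToHom e).left)
    infer_instance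
  haveI := hι
  refine ⟨_, ι, hι, Over.mono_of_mono_left _, fun b => ?_⟩
  let g : b ⟶ Over.mk (𝟙 U) := Over.homMk b.hom (Category.comp_id _)
  let φ := y.map g
  haveI : (ModSt.Coh f).p.IsHomLift b.hom φ := FC16.map_over_lift y g
  have eb : (y.obj b).obj.base = b.left := y.w_obj b
  have hbase : φ.hom.base = eqToHom eb ≫ b.hom ≫ eqToHom e.symm :=
    IsHomLift.fac' (ModSt.Coh f).p b.hom φ
  obtain ⟨ec⟩ := nonempty_iso_of_isCart φ.hom.cart
  have key : IsLine (y.obj b) ↔ Set.range φ.hom.base.left ⊆ (O : Set A.obj.base.left) := by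
    refine Iff.trans ?_ (rankIn_pullback_iff A.obj.q A.obj.E A.property.2 A.property.1 φ.hom.isPullback_top)
    rw [IsLine, ← rankIn_singleton_iff, ← rankIn_singleton_iff]
    exact ⟨rankIn_iso ec.symm, rankIn_iso ec⟩
  rw [key]
  constructor
  · intro hr
    rw [← Scheme.Opens.range_ι] at hr
    let m : (y.obj b).obj.base ⟶ Over.mk (O.ι ≫ A.obj.base.hom) :=
      Over.homMk (IsOpenImmersion.lift O.ι φ.hom.base.left hr) (by
        show _ ≫ O.ι ≫ A.obj.base.hom = _
        rw [IsOpenImmersion.lift_fac_assoc]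
        exact Over.w φ.hom.base)
    have hm : m ≫ Over.homMk O.ι = φ.hom.base :=
      Over.OverMorphism.ext (IsOpenImmersion.lift_fac _ _ _)
    refine ⟨eqToHom eb.symm ≫ m, ?_⟩
    show (eqToHom eb.symm ≫ m) ≫ Over.homMk O.ι ≫ eqToHom e = b.hom
    rw [Category.assoc, reassoc_of% hm, hbase]
    simp
  · rintro ⟨l, hl⟩
    have : φ.hom.base = (eqToHom eb ≫ l) ≫ Over.homMk O.ι := by
      rw [hbase, ← hl]
      show eqToHom eb ≫ (l ≫ Over.homMk O.ι ≫ eqToHom e) ≫ eqToHom e.symm = _
      simp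
    rw [this, ← Scheme.Opens.range_ι]
    rintro _ ⟨t, rfl⟩
    exact ⟨(eqToHom eb ≫ l).left t, rfl⟩

theorem isOpenImm_subIncl_line :
    AlgSt.IsOpenImm (AlgSt.subIncl (ModSt.Coh f) fun A => FlatMod.IsFinLocFreeOfRank 1 A.obj.E) :=
  isOpenImm_subIncl (𝒳 := ModSt.Coh f) (Q := IsLine) ⟨fun e h => isLine_of_hom e.inv h⟩ cutOut_isLine

end Groth.Agent.ModSt9
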